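import Cfsg.Agent.Lib.Chev.Tab.G2d
import Cfsg.Agent.Lib.Chev.Tab.B2d
import Cfsg.Agent.Lib.Chev.Tab.D4d
import Cfsg.Agent.Lib.Chev.Tab.F4d
import Cfsg.Agent.Lib.Chev.Tab.E6d
import Cfsg.Agent.Lib.Chev.Tab.E7d
import Cfsg.Agent.Lib.Chev.Tab.E8d
import Cfsg.Agent.Lib.Chev.WeylMain
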