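import Cfsg.Agent.Lib.Chev.Stein7

/-!
Exceptional graph automorphisms in the presented group: a check on the tables and the homomorphism.
-/

set_option autoImplicit false
set_option linter.unusedSimpArgs false
set_option linter.unusedVariables false
set_option linter.unusedSectionVars false

namespace Cfsg.Agent.Lib.Chev

open Cfsg Cfsg.Lie
open Good2 (rB gen_mem_rB rB_le rB_induction rB_mono wB_mem NN)

/-- The key of a term in the commutator of the images. -/
def kT (p : ℤ) (lam : ℕ → ℕ) (r s : ℕ) (c : ℕ × ℤ × ℕ × ℕ) : ℕ × ℤ × ℕ × ℕ :=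
  (c.1, (c.2.1 * (-1) ^ c.2.2.1) % p, lam r * c.2.2.1, lam s * c.2.2.2)

/-- The key of the image of a term in a commutator. -/
def kS (p : ℤ) (ρ lam : ℕ → ℕ) (c : ℕ × ℤ × ℕ × ℕ) : ℕ × ℤ × ℕ × ℕ :=
  (ρ c.1, (c.2.1 ^ lam c.1 * (-1) ^ (c.2.2.1 * lam c.1)) % p, c.2.2.1 * lam c.1, c.2.2.2 * lam c.1)

/-- Two root groups which commute in characteristic `p`. -/
def ecomm (T : Tbl) (p : ℤ) (a b : ℕ) : Bool :=
  !Nat.beq a b && !Nat.beq b (T.neg a) && (commT T.ce a b).all fun c => decide (c.2.1 % p = 0)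

/-- Take an entry out of a list, going past entries which commute with it. -/
def extractK (cm : ℕ → ℕ → Bool) (h : ℕ × ℤ × ℕ × ℕ) : List (ℕ × ℤ × ℕ × ℕ) → Option (List (ℕ × ℤ × ℕ × ℕ))
  | [] => none
  | a :: L => if a = h then some L else if cm a.1 h.1 then (extractK cm h L).map (a :: ·) else none

/-- One list is a rearrangement of the other, through commuting entries. -/
def reordK (cm : ℕ → ℕ → Bool) : List (ℕ × ℤ × ℕ × ℕ) → List (ℕ × ℤ × ℕ × ℕ) → Bool
  | [], L => L.isEmpty
  | h :: L', L =>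
    match extractK cm h L with
    | some L2 => reordK cm L' L2
    | none => false

/-- The entries with non-zero coefficient. -/
def nzK (L : List (ℕ × ℤ × ℕ × ℕ)) : List (ℕ × ℤ × ℕ × ℕ) := L.filter fun k => !(decide (k.2.1 = 0))

/-- The check for an exceptional automorphism. -/
def chkE (T : Tbl) (p : ℕ) (ρ lam : ℕ → ℕ) : Bool :=
  allLt T.n (fun r => Nat.blt (ρ r) T.n && Nat.beq (ρ (ρ r)) r && Nat.beq (ρ (T.neg r)) (T.neg (ρ r)) && Nat.beq (lam (T.neg r)) (lam r) &&
    (Nat.beq (lam r) 1 || Nat.beq (lam r) p)) &&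
  allLt T.n (fun r => allLt T.n fun s => Nat.beq s r || Nat.beq s (T.neg r) ||
    (!Nat.beq (ρ s) (ρ r) && !Nat.beq (ρ s) (T.neg (ρ r)) &&
      reordK (ecomm T p) (nzK ((commT T.ce (ρ r) (ρ s)).map (kT p lam r s))) (nzK ((commT T.ce r s).map (kS p ρ lam)))))

variable {D : ChevalleyDatum} {K : Type*} [Field K]

theorem extractK_prod {α : Type*} [Group α] {cm : ℕ → ℕ → Bool} (f : ℕ × ℤ × ℕ × ℕ → α)
    (hf : ∀ a b, cm a.1 b.1 = true → f a * f b = f b * f a) {h : ℕ × ℤ × ℕ × ℕ} :
    ∀ {L L2 : List (ℕ × ℤ × ℕ × ℕ)}, extractK cm h L = some L2 → (L.map f).prod = f h * (L2.map f).prod := by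
  intro L
  induction L with
  | nil => intro L2 h2; simp [extractK] at h2
  | cons a L ih =>
    intro L2 h2
    simp only [extractK] at h2
    by_cases ha : a = h
    · rw [if_pos ha] at h2
      simp only [Option.some.injEq] at h2
      subst h2
      subst ha
      simp
    · rw [if_neg ha] at h2
      by_cases hc : cm a.1 h.1 = true
      · rw [if_pos hc] at h2
        simp only [Option.map_eq_some_iff] at h2
        obtain ⟨L3, h3, rfl⟩ := h2
        simp only [List.map_cons, List.prod_cons]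
        rw [ih h3, ← mul_assoc, ← mul_assoc, hf a h hc]
      · rw [if_neg hc] at h2
        simp at h2

theorem reordK_prod {α : Type*} [Group α] {cm : ℕ → ℕ → Bool} (f : ℕ × ℤ × ℕ × ℕ → α)
    (hf : ∀ a b, cm a.1 b.1 = true → f a * f b = f b * f a) :
    ∀ {L' L : List (ℕ × ℤ × ℕ × ℕ)}, reordK cm L' L = true → (L'.map f).prod = (L.map f).prod := by
  intro L'
  induction L' with
  | nil =>
    intro L h
    simp only [reordK, List.isEmpty_iff] at h
    subst h
    simp
  | cons h L' ih =>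
    intro L h2
    simp only [reordK] at h2
    cases h3 : extractK cm h L with
    | none => rw [h3] at h2; simp at h2
    | some L2 =>
      rw [h3] at h2
      simp only at h2
      rw [extractK_prod f hf h3, List.map_cons, List.prod_cons, ih h2]

/-- The value attached to a key. -/
noncomputable def vK (t u : K) (k : ℕ × ℤ × ℕ × ℕ) : ℕ × K :=
  (k.1, (k.2.1 : K) * t ^ k.2.2.1 * u ^ k.2.2.2)

theorem intCast_emod (p : ℕ) [CharP K p] (a : ℤ) : (((a % (p : ℤ) : ℤ)) : K) = (a : K) := by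
  have h1 : a = (p : ℤ) * (a / p) + a % p := (Int.mul_ediv_add_emod a p).symm
  conv_rhs => rw [h1]
  push_cast
  rw [CharP.cast_eq_zero K p]
  simp

theorem commWord_kT (p : ℕ) [CharP K p] (lam : ℕ → ℕ) (r s : ℕ) (r' s' : ℕ) (t u : K) :
    D.commWord K r' s' (t ^ lam r) (u ^ lam s) = ((D.commTerms r' s').map (kT p lam r s)).map (vK t u) := by
  simp only [ChevalleyDatum.commWord, List.map_map]
  apply List.map_congr_left
  intro c _
  simp only [Function.comp_apply, kT, vK, Prod.mk.injEq, true_and]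
  rw [intCast_emod p]
  push_cast
  rw [pow_mul, pow_mul, neg_pow (t ^ lam r)]
  ring

theorem map_kS (p : ℕ) [CharP K p] (ρ lam : ℕ → ℕ) (r s : ℕ) (t u : K) :
    (D.commWord K r s t u).map (fun q => (ρ q.1, q.2 ^ lam q.1)) =
      ((D.commTerms r s).map (kS p ρ lam)).map (vK t u) := by
  simp only [ChevalleyDatum.commWord, List.map_map]
  apply List.map_congr_left
  intro c _
  simp only [Function.comp_apply, kS, vK, Prod.mk.injEq, true_and]
  rw [intCast_emod p]
  push_cast
  rw [mul_pow, mul_pow, neg_pow t, mul_pow, ← pow_mul, ← pow_mul, ← pow_mul]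
  ring

namespace Good2

variable (G : Good2 D)
include G

theorem wB_nz {t u : K} (L : List (ℕ × ℤ × ℕ × ℕ)) (hL : ∀ k ∈ L, k.1 < D.nroots) :
    wB D K (L.map (vK t u)) = wB D K ((nzK L).map (vK t u)) := by
  induction L with
  | nil => rfl
  | cons a L ih =>
    have h := ih fun k hk => hL k (List.mem_cons_of_mem _ hk)
    by_cases ha : a.2.1 = 0
    · have : nzK (a :: L) = nzK L := by
        simp [nzK, ha]
      rw [this, ← h, List.map_cons, wB_cons]
      have hv : (vK t u a).2 = 0 := by simp [vK, ha]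
      rw [hv]
      have hr : (vK t u a).1 < D.nroots := hL a List.mem_cons_self
      rw [stGen_zero hr, one_mul]
    · have : nzK (a :: L) = a :: nzK L := by
        simp [nzK, ha]
      rw [this, List.map_cons, List.map_cons, wB_cons, wB_cons, h]

omit G in
theorem stGen_out {r : ℕ} (hr : ¬ r < D.nroots) (t : K) : D.stGen K r t = 1 := by
  show PresentedGroup.mk _ _ = 1
  rw [ChevalleyDatum.stX, dif_neg hr, map_one]

/-- Commuting root elements. -/
theorem ecomm_comm (p : ℕ) [CharP K p] {a b : ℕ} (h : ecomm (tblOf D) p a b = true) (t u : K) :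
    D.stGen K a t * D.stGen K b u = D.stGen K b u * D.stGen K a t := by
  by_cases ha : a < D.nroots
  swap
  · rw [stGen_out ha]; simp
  by_cases hb : b < D.nroots
  swap
  · rw [stGen_out hb]; simp
  simp only [ecomm, Bool.and_eq_true, List.all_eq_true, decide_eq_true_eq, Bool.not_eq_true', Nat.beq_eq_true_eq] at h
  obtain ⟨⟨h1, h2⟩, h3⟩ := h
  have h4 : b ≠ a := fun e => by
    subst e
    simp at h1
  have h5 : b ≠ D.neg a := fun e => by
    subst e
    have : Nat.beq (D.neg a) ((tblOf D).neg a) = true := by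
      show Nat.beq (D.neg a) (D.neg a) = true
      simp
    rw [this] at h2
    simp at h2
  have e := stGen_R2 ha hb h4 h5 t u
  have hw : wB D K (D.commWord K a b t u) = 1 := by
    have : ∀ L : List (ℕ × ℤ × ℕ × ℕ), (∀ c ∈ L, c.1 < D.nroots ∧ c.2.1 % (p : ℤ) = 0) →
        wB D K (L.map fun c => (c.1, (c.2.1 : K) * (-t) ^ c.2.2.1 * u ^ c.2.2.2)) = 1 := by
      intro L hL
      induction L with
      | nil => rfl
      | cons c L ih =>
        rw [List.map_cons, wB_cons, ih fun x hx => hL x (List.mem_cons_of_mem _ hx)]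
        have h6 := hL c List.mem_cons_self
        have h7 : (c.2.1 : K) = 0 := by
          rw [← intCast_emod p, h6.2]
          simp
        simp only [h7, zero_mul, mul_one]
        exact stGen_zero h6.1
    exact this _ fun c hc => ⟨G.commTerms_lt ha hb c hc, h3 c hc⟩
  rw [hw, mul_one] at e
  exact e.symm

end Good2

/-- The map of generators of the exceptional map. -/
noncomputable def fE (D : ChevalleyDatum) (K : Type*) [Field K] (ρ lam : ℕ → ℕ) : Fin D.nroots × K → D.SteinbergGroup K :=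
  fun x => D.stGen K (ρ x.1) (x.2 ^ lam x.1)

/-- The exceptional data. -/
structure ExcData (D : ChevalleyDatum) (p : ℕ) where
  ρ : ℕ → ℕ
  lam : ℕ → ℕ
  chk : chkE (tblOf D) p ρ lam = true

namespace ExcData

variable {p : ℕ} (E : ExcData D p)

theorem lt {r : ℕ} (hr : r < D.nroots) : E.ρ r < D.nroots := by
  have h := E.chk
  simp only [chkE, Bool.and_eq_true] at h
  have := (allLt_iff _ _).mp h.1 r hr
  simp only [Bool.and_eq_true, Nat.blt_eq] at this
  exact this.1.1.1.1

theorem ρρ {r : ℕ} (hr : r < D.nroots) : E.ρ (E.ρ r) = r := by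
  have h := E.chk
  simp only [chkE, Bool.and_eq_true] at h
  have := (allLt_iff _ _).mp h.1 r hr
  simp only [Bool.and_eq_true] at this
  exact Nat.eq_of_beq_eq_true this.1.1.1.2

theorem ρ_neg {r : ℕ} (hr : r < D.nroots) : E.ρ (D.neg r) = D.neg (E.ρ r) := by
  have h := E.chk
  simp only [chkE, Bool.and_eq_true] at h
  have := (allLt_iff _ _).mp h.1 r hr
  simp only [Bool.and_eq_true] at this
  exact Nat.eq_of_beq_eq_true this.1.1.2

theorem lam_neg {r : ℕ} (hr : r < D.nroots) : E.lam (D.neg r) = E.lam r := by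
  have h := E.chk
  simp only [chkE, Bool.and_eq_true] at h
  have := (allLt_iff _ _).mp h.1 r hr
  simp only [Bool.and_eq_true] at this
  exact Nat.eq_of_beq_eq_true this.1.2

theorem lam_cases {r : ℕ} (hr : r < D.nroots) : E.lam r = 1 ∨ E.lam r = p := by
  have h := E.chk
  simp only [chkE, Bool.and_eq_true] at h
  have := (allLt_iff _ _).mp h.1 r hr
  simp only [Bool.and_eq_true, Bool.or_eq_true] at this
  rcases this.2 with h2 | h2
  · exact Or.inl (Nat.eq_of_beq_eq_true h2)
  · exact Or.inr (Nat.eq_of_beq_eq_true h2)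

theorem pair {r s : ℕ} (hr : r < D.nroots) (hs : s < D.nroots) (h1 : s ≠ r) (h2 : s ≠ D.neg r) :
    E.ρ s ≠ E.ρ r ∧ E.ρ s ≠ D.neg (E.ρ r) ∧
      reordK (ecomm (tblOf D) p) (nzK ((D.commTerms (E.ρ r) (E.ρ s)).map (kT p E.lam r s)))
        (nzK ((D.commTerms r s).map (kS p E.ρ E.lam))) = true := by
  have h := E.chk
  simp only [chkE, Bool.and_eq_true] at h
  have h3 := (allLt_iff _ _).mp ((allLt_iff _ _).mp h.2 r hr) s hs
  simp only [Bool.or_eq_true, Bool.and_eq_true] at h3
  have ne_of : ∀ a b : ℕ, (!Nat.beq a b) = true → a ≠ b := by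
    intro a b h h2
    subst h2
    simp at h
  rcases h3 with (h4 | h4) | h4
  · exact absurd (Nat.eq_of_beq_eq_true h4) h1
  · exact absurd (Nat.eq_of_beq_eq_true h4) h2
  · exact ⟨ne_of _ _ h4.1.1, ne_of _ _ h4.1.2, h4.2⟩

variable [Fact p.Prime] [CharP K p]

omit [Fact p.Prime] [CharP K p] in
include E in
theorem lift_stX {r : ℕ} (hr : r < D.nroots) (t : K) :
    FreeGroup.lift (fE D K E.ρ E.lam) (D.stX r t) = D.stGen K (E.ρ r) (t ^ E.lam r) := by
  unfold ChevalleyDatum.stX
  rw [dif_pos hr, FreeGroup.lift_apply_of]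
  rfl

omit [Fact p.Prime] [CharP K p] in
theorem lift_stWord (w : List (ℕ × K)) (hw : ∀ a ∈ w, a.1 < D.nroots) :
    FreeGroup.lift (fE D K E.ρ E.lam) (D.stWord w) = wB D K (w.map fun q => (E.ρ q.1, q.2 ^ E.lam q.1)) := by
  induction w with
  | nil => simp [ChevalleyDatum.stWord, wB]
  | cons a w ih =>
    have := ih (fun b hb => hw b (List.mem_cons_of_mem _ hb))
    simp only [ChevalleyDatum.stWord] at this ⊢
    simp only [List.map_cons, List.prod_cons, map_mul, wB_cons]
    rw [this, E.lift_stX (hw a List.mem_cons_self)]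

include E in
theorem add_lam {r : ℕ} (hr : r < D.nroots) (t u : K) : (t + u) ^ E.lam r = t ^ E.lam r + u ^ E.lam r := by
  rcases E.lam_cases hr with h | h <;> rw [h]
  · simp
  · exact add_pow_char t u p

include E in
theorem neg_one_lam {r : ℕ} (hr : r < D.nroots) : (-1 : K) ^ E.lam r = -1 := by
  have h := E.add_lam (K := K) hr 1 (-1)
  rw [add_neg_cancel, one_pow] at h
  have hl : E.lam r ≠ 0 := by
    rcases E.lam_cases hr with h | h <;> rw [h]
    · norm_num
    · exact (Fact.out : p.Prime).ne_zero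
  rw [zero_pow hl] at h
  linear_combination -h

include E in
/-- The commutator words correspond. -/
theorem word_eq (G : Good2 D) {r s : ℕ} (hr : r < D.nroots) (hs : s < D.nroots) (h1 : s ≠ r) (h2 : s ≠ D.neg r) (t u : K) :
    wB D K (D.commWord K (E.ρ r) (E.ρ s) (t ^ E.lam r) (u ^ E.lam s)) =
      wB D K ((D.commWord K r s t u).map fun q => (E.ρ q.1, q.2 ^ E.lam q.1)) := by
  obtain ⟨h3, h4, h5⟩ := E.pair hr hs h1 h2
  have hl1 : ∀ k ∈ (D.commTerms (E.ρ r) (E.ρ s)).map (kT p E.lam r s), k.1 < D.nroots := by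
    intro k hk
    obtain ⟨c, hc, rfl⟩ := List.mem_map.mp hk
    exact G.commTerms_lt (E.lt hr) (E.lt hs) c hc
  have hl2 : ∀ k ∈ (D.commTerms r s).map (kS p E.ρ E.lam), k.1 < D.nroots := by
    intro k hk
    obtain ⟨c, hc, rfl⟩ := List.mem_map.mp hk
    exact E.lt (G.commTerms_lt hr hs c hc)
  rw [commWord_kT p E.lam r s (E.ρ r) (E.ρ s) t u, map_kS p E.ρ E.lam r s t u, G.wB_nz _ hl1, G.wB_nz _ hl2]
  have hf : ∀ a b : ℕ × ℤ × ℕ × ℕ, ecomm (tblOf D) p a.1 b.1 = true →
      D.stGen K (vK t u a).1 (vK t u a).2 * D.stGen K (vK t u b).1 (vK t u b).2 =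
        D.stGen K (vK t u b).1 (vK t u b).2 * D.stGen K (vK t u a).1 (vK t u a).2 := fun a b h =>
    G.ecomm_comm p h _ _
  have := reordK_prod (fun k => D.stGen K (vK t u k).1 (vK t u k).2) hf h5
  simpa only [wB, List.map_map, Function.comp_def] using this

include E in
theorem hWord_lift {r : ℕ} (G : Good2 D) (hr : r < D.nroots) {t : K} (ht : t ≠ 0) :
    FreeGroup.lift (fE D K E.ρ E.lam) (D.stH r t) = hB D K (E.ρ r) (t ^ E.lam r) := by
  have hn := G.neg_lt hr
  have hw : ∀ a ∈ D.hWord r t, a.1 < D.nroots := by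
    intro a ha
    simp only [ChevalleyDatum.hWord, ChevalleyDatum.nWord, List.mem_append, List.mem_cons, List.not_mem_nil,
      or_false] at ha
    rcases ha with (rfl | rfl | rfl) | (rfl | rfl | rfl) <;> first | exact hr | exact hn
  rw [ChevalleyDatum.stH, E.lift_stWord _ hw]
  have h1 := E.neg_one_lam (K := K) hr
  have e1 : (-t⁻¹) ^ E.lam r = -(t ^ E.lam r)⁻¹ := by
    rw [neg_pow, h1, inv_pow]
    ring
  have : (D.hWord r t).map (fun q => (E.ρ q.1, q.2 ^ E.lam q.1)) = D.hWord (E.ρ r) (t ^ E.lam r) := by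
    simp only [ChevalleyDatum.hWord, ChevalleyDatum.nWord, List.map_append, List.map_cons, List.map_nil,
      List.cons_append, List.nil_append, E.ρ_neg hr, E.lam_neg hr, inv_neg, inv_one, neg_neg, e1, one_pow, h1]
  rw [this]
  rfl

/-- The relators hold. -/
theorem rels_E (G : Good2 D) : ∀ r ∈ D.steinbergRels K, FreeGroup.lift (fE D K E.ρ E.lam) r = 1 := by
  rintro g ((⟨r, t, u, hr, rfl⟩ | ⟨r, s, t, u, hr, hs, h1, h2, rfl⟩) | ⟨r, t, u, hr, ht, hu, rfl⟩)
  · rw [map_mul, map_mul, map_inv, E.lift_stX hr, E.lift_stX hr, E.lift_stX hr, mul_inv_eq_one, stGen_R1 (E.lt hr),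
      E.add_lam hr]
  · obtain ⟨h3, h4, h5⟩ := E.pair hr hs h1 h2
    have hw : ∀ a ∈ D.commWord K r s t u, a.1 < D.nroots := by
      intro a ha
      simp only [ChevalleyDatum.commWord, List.mem_map] at ha
      obtain ⟨c, hc, rfl⟩ := ha
      exact G.commTerms_lt hr hs c hc
    simp only [map_mul, map_inv, E.lift_stX hr, E.lift_stX hs, E.lift_stWord _ hw, mul_inv_eq_one]
    rw [← E.word_eq G hr hs h1 h2]
    have h6 := stGen_R2 (E.lt hr) (E.lt hs) h3 h4 (t ^ E.lam r) (u ^ E.lam s)
    calc (D.stGen K (E.ρ s) (u ^ E.lam s))⁻¹ * (D.stGen K (E.ρ r) (t ^ E.lam r))⁻¹ * D.stGen K (E.ρ s) (u ^ E.lam s) * D.stGen K (E.ρ r) (t ^ E.lam r)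
        = (D.stGen K (E.ρ s) (u ^ E.lam s))⁻¹ * (D.stGen K (E.ρ r) (t ^ E.lam r))⁻¹ * (D.stGen K (E.ρ s) (u ^ E.lam s) * D.stGen K (E.ρ r) (t ^ E.lam r)) := by group
      _ = _ := by rw [h6]; group
  · have hl : E.lam r ≠ 0 := by
      rcases E.lam_cases hr with h | h <;> rw [h]
      · norm_num
      · exact (Fact.out : p.Prime).ne_zero
    rw [map_mul, map_mul, map_inv, E.hWord_lift G hr ht, E.hWord_lift G hr hu, E.hWord_lift G hr (mul_ne_zero ht hu), mul_inv_eq_one,
      stGen_R3 (E.lt hr) (pow_ne_zero _ ht) (pow_ne_zero _ hu), mul_pow]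

/-- The exceptional endomorphism of the presented group. -/
noncomputable def hom (G : Good2 D) : D.SteinbergGroup K →* D.SteinbergGroup K :=
  PresentedGroup.toGroup (E.rels_E G)

theorem hom_gen (G : Good2 D) {r : ℕ} (hr : r < D.nroots) (t : K) :
    E.hom G (D.stGen K r t) = D.stGen K (E.ρ r) (t ^ E.lam r) := by
  have h1 : D.stGen K r t = PresentedGroup.mk (D.steinbergRels K) (D.stX r t) := rfl
  rw [h1]
  show FreeGroup.lift (fE D K E.ρ E.lam) (D.stX r t) = _
  exact E.lift_stX hr t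

end ExcData

namespace Good5

variable {p : ℕ} [Fact p.Prime] [CharP K p] (G : Good5 D) (E : ExcData D p)

/-- `θ` as an isomorphism when the centre is trivial. -/
noncomputable def thetaE (M : CoxeterMatrix (Fin D.rank)) (hM : ∀ i j : Fin D.rank, G.cm i j = M i j)
    (hc : Subgroup.center (D.SteinbergGroup K) = ⊥) : D.SteinbergGroup K ≃* ↥(D.group K) :=
  MulEquiv.ofBijective (G.thetaD K)
    ⟨by
      rw [← MonoidHom.ker_eq_bot_iff, G.thetaD_ker M hM, hc], G.thetaD_surj⟩

theorem thetaE_apply (M : CoxeterMatrix (Fin D.rank)) (hM : ∀ i j : Fin D.rank, G.cm i j = M i j)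
    (hc : Subgroup.center (D.SteinbergGroup K) = ⊥) (z : D.SteinbergGroup K) : G.thetaE M hM hc z = G.thetaD K z := rfl

/-- The exceptional endomorphism of the Chevalley group. -/
noncomputable def excHom (M : CoxeterMatrix (Fin D.rank)) (hM : ∀ i j : Fin D.rank, G.cm i j = M i j)
    (hc : Subgroup.center (D.SteinbergGroup K) = ⊥) : ↥(D.group K) →* ↥(D.group K) :=
  (G.thetaD K).comp ((E.hom G.toGood2).comp (G.thetaE M hM hc).symm.toMonoidHom)

theorem excHom_theta (M : CoxeterMatrix (Fin D.rank)) (hM : ∀ i j : Fin D.rank, G.cm i j = M i j)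
    (hc : Subgroup.center (D.SteinbergGroup K) = ⊥) (z : D.SteinbergGroup K) :
    G.excHom E M hM hc (G.thetaD K z) = G.thetaD K (E.hom G.toGood2 z) := by
  simp only [excHom, MonoidHom.comp_apply, MulEquiv.coe_toMonoidHom]
  rw [← G.thetaE_apply M hM hc z, MulEquiv.symm_apply_apply]

/-- The value of the exceptional endomorphism on root elements. -/
theorem excHom_x (M : CoxeterMatrix (Fin D.rank)) (hM : ∀ i j : Fin D.rank, G.cm i j = M i j)
    (hc : Subgroup.center (D.SteinbergGroup K) = ⊥) {r : ℕ} (hr : r < D.nroots) {t : K} {g : ↥(D.group K)}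
    (hg : ((g : GL D.Idx K) : Matrix D.Idx D.Idx K) = D.x K r t) :
    ((G.excHom E M hM hc g : GL D.Idx K) : Matrix D.Idx D.Idx K) = D.x K (E.ρ r) (t ^ E.lam r) := by
  have e : g = G.thetaD K (D.stGen K r t) := by
    apply Subtype.ext
    apply Units.ext
    rw [hg, G.thetaD_gen hr]
  rw [e, G.excHom_theta, E.hom_gen G.toGood2 hr, G.thetaD_gen (E.lt hr)]

theorem excHom_surj (M : CoxeterMatrix (Fin D.rank)) (hM : ∀ i j : Fin D.rank, G.cm i j = M i j)
    (hc : Subgroup.center (D.SteinbergGroup K) = ⊥) (hperf : ∀ (r : ℕ), r < D.nroots → ∀ v : K, ∃ t : K, t ^ E.lam r = v) :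
    Function.Surjective (G.excHom E M hM hc) := by
  have h1 : Function.Surjective (E.hom G.toGood2 (K := K)) := by
    rw [← MonoidHom.range_eq_top, eq_top_iff, ← PresentedGroup.closure_range_of (D.steinbergRels K)]
    apply (Subgroup.closure_le _).mpr
    rintro _ ⟨x, rfl⟩
    rw [of_eq_stGen]
    obtain ⟨t, ht⟩ := hperf (E.ρ x.1) (E.lt x.1.isLt) x.2
    refine ⟨D.stGen K (E.ρ x.1) t, ?_⟩
    rw [E.hom_gen G.toGood2 (E.lt x.1.isLt), E.ρρ x.1.isLt, ht]
  intro g
  obtain ⟨z, rfl⟩ := G.thetaD_surj g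
  obtain ⟨y, rfl⟩ := h1 z
  exact ⟨G.thetaD K y, G.excHom_theta E M hM hc y⟩

end Good5

/-- A surjective endomorphism of a simple group is bijective. -/
theorem bijective_of_simple {Γ : Type*} [Group Γ] [IsSimpleGroup Γ] (f : Γ →* Γ) (h : Function.Surjective f) :
    Function.Bijective f := by
  refine ⟨?_, h⟩
  rw [← MonoidHom.ker_eq_bot_iff]
  rcases (IsSimpleGroup.eq_bot_or_eq_top_of_normal f.ker inferInstance) with h1 | h1
  · exact h1
  · exfalso
    obtain ⟨a, b, hab⟩ := exists_pair_ne Γ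
    obtain ⟨a', rfl⟩ := h a
    obtain ⟨b', rfl⟩ := h b
    have ha : f a' = 1 := by
      have : a' ∈ f.ker := by rw [h1]; trivial
      exact this
    have hb : f b' = 1 := by
      have : b' ∈ f.ker := by rw [h1]; trivial
      exact this
    exact hab (ha.trans hb.symm)

end Cfsg.Agent.Lib.Chev
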