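import Cfsg.Agent.Lib.Chev.Tab.G2x
import Cfsg.Agent.Lib.Chev.Tab.B2x
import Cfsg.Agent.Lib.Chev.Tab.F4x

/-!
The centres of the presented groups of types B₂, F₄, G₂.
-/

set_option autoImplicit false
set_option linter.unusedSimpArgs false
set_option linter.unusedVariables false
set_option linter.unusedSectionVars false

namespace Cfsg.Agent.Lib.Chev

open Cfsg Cfsg.Lie

variable {K : Type*} [Field K]

theorem center_F4 : Subgroup.center (chevF4.SteinbergGroup K) = ⊥ :=
  TabF4.good5.center_trivial CoxeterMatrix.F₄ (by set_option backward.isDefEq.respectTransparency false in decide +kernel)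
    (matOf 4 [[2, 3, 4, 2], [3, 6, 8, 4], [2, 4, 6, 3], [1, 2, 3, 2]]) (by decide +kernel)

theorem center_G2 : Subgroup.center (chevG2.SteinbergGroup K) = ⊥ :=
  TabG2.good5.center_trivial CoxeterMatrix.G₂ (by set_option backward.isDefEq.respectTransparency false in decide +kernel)
    (matOf 2 [[2, 3], [1, 2]]) (by decide +kernel)

theorem act_B2 [CharP K 2] (c : Fin 2 → Kˣ) (hc : act (matOf 2 [[2, -2], [-1, 2]]) c = 1) : c = 1 := by
  have h0 := congrFun hc 0
  have h1 := congrFun hc 1
  rw [act_apply, Fin.prod_univ_two] at h0 h1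
  simp only [Pi.one_apply] at h0 h1
  have e00 : matOf 2 [[2, -2], [-1, 2]] 0 0 = 2 := rfl
  have e10 : matOf 2 [[2, -2], [-1, 2]] 1 0 = -1 := rfl
  have e01 : matOf 2 [[2, -2], [-1, 2]] 0 1 = -2 := rfl
  have e11 : matOf 2 [[2, -2], [-1, 2]] 1 1 = 2 := rfl
  rw [e00, e10] at h0
  rw [e01, e11] at h1
  set a := c 0 with ha
  set b := c 1 with hb
  -- `(b / a)² = 1`, so `a = b` in characteristic 2
  have h2 : (b * a⁻¹) ^ 2 = 1 := by
    have : (b * a⁻¹) ^ 2 = a ^ (-2 : ℤ) * b ^ (2 : ℤ) := by
      rw [mul_pow, mul_comm, _root_.zpow_neg]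
      simp only [zpow_ofNat, inv_pow]
    rw [this, h1]
  have h3 : b * a⁻¹ = 1 := by
    have h4 : (((b * a⁻¹ : Kˣ) : K)) ^ 2 = 1 := by
      have := congrArg (fun u : Kˣ => (u : K)) h2
      simpa using this
    have h5 : ((b * a⁻¹ : Kˣ) : K) = 1 := by
      have h6 : (((b * a⁻¹ : Kˣ) : K) - 1) ^ 2 = 0 := by
        have h7 : (2 : K) = 0 := by
          have := CharP.cast_eq_zero K 2
          simpa using this
        linear_combination h4 + (1 - ((b * a⁻¹ : Kˣ) : K)) * h7
      have := pow_eq_zero_iff (n := 2) (by norm_num) |>.mp h6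
      linear_combination this
    exact Units.ext h5
  have hab : b = a := by
    rwa [mul_inv_eq_one] at h3
  rw [hab] at h0
  have ha1 : a = 1 := by
    have : a ^ (2 : ℤ) * a ^ (-1 : ℤ) = a := by
      rw [← zpow_add]
      norm_num
    rw [this] at h0
    exact h0
  funext i
  fin_cases i
  · exact ha1
  · show b = 1
    rw [hab, ha1]

theorem center_B2 [CharP K 2] : Subgroup.center (chevB2.SteinbergGroup K) = ⊥ := by
  refine TabB2.good5.center_trivial_of (CoxeterMatrix.B 2) (by set_option backward.isDefEq.respectTransparency false in decide +kernel) ?_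
  have e : ∀ i j : Fin 2, cartanFin chevB2 i j = matOf 2 [[2, -2], [-1, 2]] i j := by
    set_option backward.isDefEq.respectTransparency false in decide +kernel
  have e2 : cartanFin chevB2 = matOf 2 [[2, -2], [-1, 2]] := by
    funext i j
    exact e i j
  intro c hc
  rw [e2] at hc
  exact act_B2 c hc

end Cfsg.Agent.Lib.Chev
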