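import Mathlib

/-!
Abstract construction of a homomorphism from `SL₂(F)` out of a pair of one-parameter families
satisfying the rank one relations.
-/

set_option autoImplicit false

namespace Cfsg.Agent.Lib.Chev.SL2

open Matrix

variable {Γ : Type*} [Group Γ] {F : Type*} [Field F]

/-- `n(t)`. -/
def nE (a b : F → Γ) (t : F) : Γ := a t * b (-t⁻¹) * a t
/-- `h(t)`. -/
def hE (a b : F → Γ) (t : F) : Γ := nE a b t * (nE a b 1)⁻¹

/-- The relations used to build the homomorphism. -/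
structure Rel (a b : F → Γ) : Prop where
  aa : ∀ s t, a s * a t = a (s + t)
  bb : ∀ s t, b s * b t = b (s + t)
  hm : ∀ s t, s ≠ 0 → t ≠ 0 → hE a b s * hE a b t = hE a b (s * t)
  ha : ∀ s t, s ≠ 0 → hE a b s * a t = a (s ^ 2 * t) * hE a b s
  nh : ∀ s, s ≠ 0 → nE a b 1 * hE a b s = hE a b s⁻¹ * nE a b 1
  na : ∀ u, nE a b 1 * a u = b (-u) * nE a b 1

variable {a b : F → Γ}

namespace Rel

variable (R : Rel a b)
include R

theorem a_zero : a 0 = 1 := by
  have := R.aa 0 0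
  rw [add_zero] at this
  exact mul_eq_left.mp this

theorem b_zero : b 0 = 1 := by
  have := R.bb 0 0
  rw [add_zero] at this
  exact mul_eq_left.mp this

omit R in
theorem n_eq (t : F) : nE a b t = hE a b t * nE a b 1 := by
  simp [hE]

omit R in
theorem h_one : hE a b (1 : F) = 1 := by
  simp [hE]

theorem n_neg_one : nE a b (-1 : F) = (nE a b 1)⁻¹ := by
  simp only [nE, inv_neg, inv_one, neg_neg, _root_.mul_inv_rev]
  rw [show a (-1 : F) = (a 1)⁻¹ by
    rw [eq_inv_iff_mul_eq_one, R.aa]; simp [R.a_zero],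
    show b (1 : F) = (b (-1))⁻¹ by
    rw [eq_inv_iff_mul_eq_one, R.bb]; simp [R.b_zero]]
  simp [mul_assoc]

theorem h_neg_one_sq : hE a b (-1 : F) * hE a b (-1 : F) = 1 := by
  rw [R.hm _ _ (by simp) (by simp)]
  simp [h_one]

theorem n_sq : nE a b 1 * nE a b 1 = hE a b (-1 : F) := by
  have h1 : hE a b (-1 : F) = (nE a b 1)⁻¹ * (nE a b 1)⁻¹ := by
    simp only [hE]; rw [R.n_neg_one]
  have h2 := R.h_neg_one_sq
  have h3 : (hE a b (-1 : F))⁻¹ = hE a b (-1 : F) := inv_eq_of_mul_eq_one_left h2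
  rw [← h3, h1]
  simp [mul_assoc]

/-- The key relation in a form with a non-zero `y`. -/
theorem key {y : F} (hy : y ≠ 0) :
    nE a b 1 * a y * nE a b 1 = a (-y⁻¹) * hE a b (-y⁻¹) * nE a b 1 * a (-y⁻¹) := by
  have hyi : y⁻¹ ≠ 0 := inv_ne_zero hy
  have e1 : nE a b 1 * a y * nE a b 1 = b (-y) * hE a b (-1 : F) := by
    rw [R.na, mul_assoc, R.n_sq]
  have e2 : nE a b (y⁻¹) = a y⁻¹ * b (-y) * a y⁻¹ := by
    simp [nE]
  have e3 : b (-y) = a (-y⁻¹) * nE a b (y⁻¹) * a (-y⁻¹) := by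
    rw [e2]
    have x1 : a (-y⁻¹) * a y⁻¹ = 1 := by rw [R.aa]; simp [R.a_zero]
    have x2 : a y⁻¹ * a (-y⁻¹) = 1 := by rw [R.aa]; simp [R.a_zero]
    calc b (-y) = (a (-y⁻¹) * a y⁻¹) * b (-y) * (a y⁻¹ * a (-y⁻¹)) := by rw [x1, x2]; simp
      _ = _ := by simp only [mul_assoc]
  have e4 : a (-y⁻¹) * hE a b (-1 : F) = hE a b (-1 : F) * a (-y⁻¹) := by
    have := R.ha (-1) (-y⁻¹) (by simp)
    rw [this]
    simp
  have e5 : hE a b (-1 : F) * nE a b 1 = nE a b 1 * hE a b (-1 : F) := by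
    have := R.nh (-1) (by simp)
    rw [this]
    simp
  have e6 : hE a b (-y⁻¹) = hE a b y⁻¹ * hE a b (-1 : F) := by
    rw [R.hm _ _ hyi (by simp)]
    simp
  rw [e1, e3, n_eq y⁻¹, e6]
  calc a (-y⁻¹) * (hE a b y⁻¹ * nE a b 1) * a (-y⁻¹) * hE a b (-1 : F)
      = a (-y⁻¹) * (hE a b y⁻¹ * nE a b 1) * (a (-y⁻¹) * hE a b (-1 : F)) := by simp only [mul_assoc]
    _ = a (-y⁻¹) * hE a b y⁻¹ * (nE a b 1 * hE a b (-1 : F)) * a (-y⁻¹) := by rw [e4]; simp only [mul_assoc]
    _ = _ := by rw [← e5]; simp only [mul_assoc]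

open Classical in
/-- The piecewise map. -/
noncomputable def PhiE (a b : F → Γ) (A B C D : F) : Γ :=
  if C ≠ 0 then a (A / C) * nE a b (-C⁻¹) * a (D / C) else a (A * B) * hE a b A

theorem Phi_one : PhiE a b (1 : F) 0 0 1 = 1 := by
  simp [PhiE, R.a_zero, h_one]

theorem Phi_up (t : F) {A B C D : F} (hd : A * D - B * C = 1) :
    PhiE a b (A + t * C) (B + t * D) C D = a t * PhiE a b A B C D := by
  by_cases hc : C = 0
  · subst hc
    simp only [PhiE, ne_eq, not_true_eq_false, if_false, mul_zero, add_zero, sub_zero] at hd ⊢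
    rw [← mul_assoc, R.aa]
    congr 2
    linear_combination t * hd
  · simp only [PhiE, hc, ne_eq, not_false_eq_true, if_true]
    rw [← mul_assoc, ← mul_assoc, R.aa]
    congr 3
    field_simp
    ring

theorem Phi_d (t : F) (ht : t ≠ 0) {A B C D : F} (hd : A * D - B * C = 1) :
    PhiE a b (t * A) (t * B) (t⁻¹ * C) (t⁻¹ * D) = hE a b t * PhiE a b A B C D := by
  have hti : t⁻¹ ≠ 0 := inv_ne_zero ht
  by_cases hc : C = 0
  · subst hc
    have hA : A ≠ 0 := by
      intro h0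
      simp [h0] at hd
    simp only [PhiE, mul_zero, ne_eq, not_true_eq_false, if_false]
    rw [← mul_assoc (hE a b t), R.ha _ _ ht, mul_assoc (a _), R.hm _ _ ht hA]
    congr 2
    ring
  · have hc' : t⁻¹ * C ≠ 0 := mul_ne_zero hti hc
    simp only [PhiE, hc, hc', ne_eq, not_false_eq_true, if_true]
    have e1 : t * A / (t⁻¹ * C) = t ^ 2 * (A / C) := by
      field_simp
    have e2 : t⁻¹ * D / (t⁻¹ * C) = D / C := by
      field_simp
    have e3 : nE a b (-(t⁻¹ * C)⁻¹) = hE a b t * nE a b (-C⁻¹) := by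
      rw [n_eq (-(t⁻¹ * C)⁻¹), n_eq (-C⁻¹), ← mul_assoc,
        R.hm _ _ ht (neg_ne_zero.mpr (inv_ne_zero hc))]
      congr 2
      field_simp
    rw [e1, e2, e3]
    rw [← mul_assoc, ← mul_assoc, ← mul_assoc, ← R.ha _ _ ht]

theorem Phi_w {A B C D : F} (hd : A * D - B * C = 1) :
    PhiE a b C D (-A) (-B) = nE a b 1 * PhiE a b A B C D := by
  by_cases hc : C = 0
  · subst hc
    have hA : A ≠ 0 := by
      intro h0
      simp [h0] at hd
    have hA' : -A ≠ 0 := neg_ne_zero.mpr hA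
    simp only [PhiE, hA', ne_eq, not_true_eq_false, if_false, not_false_eq_true, if_true]
    have e0 : (0 : F) / (-A) = 0 := by simp
    rw [e0, R.a_zero, one_mul]
    have e1 : -B / -A = B / A := by
      rw [neg_div_neg_eq]
    have e3 : -(-A)⁻¹ = A⁻¹ := by rw [inv_neg, neg_neg]
    rw [e1, e3]
    have e2 : nE a b A⁻¹ = nE a b 1 * hE a b A := by
      rw [R.nh _ hA, ← n_eq]
    rw [e2, mul_assoc]
    congr 1
    rw [R.ha _ _ hA]
    congr 2
    field_simp
  · by_cases hA : A = 0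
    · subst hA
      have hbc : B * C = -1 := by linear_combination -hd
      simp only [PhiE, neg_zero, ne_eq, not_true_eq_false, if_false, hc, not_false_eq_true, if_true, zero_div, R.a_zero, one_mul]
      have hci : -C⁻¹ ≠ 0 := neg_ne_zero.mpr (inv_ne_zero hc)
      have e : nE a b 1 * nE a b (-C⁻¹) = hE a b C := by
        rw [n_eq (-C⁻¹), ← mul_assoc, R.nh _ hci, mul_assoc, R.n_sq, inv_neg, inv_inv]
        rw [R.hm _ _ (neg_ne_zero.mpr hc) (by simp)]
        have : -C * -1 = C := by ring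
        rw [this]
      rw [← mul_assoc, e, R.ha _ _ hc]
      congr 2
      field_simp
    · have hA' : - A ≠ 0 := neg_ne_zero.mpr hA
      simp only [PhiE, hc, hA', ne_eq, not_false_eq_true, if_true]
      have hy : A * C ≠ 0 := mul_ne_zero hA hc
      have hk := R.key hy
      have x1 : C / -A = -(C / A) := by rw [div_neg]
      have x2 : -(-A)⁻¹ = A⁻¹ := by rw [inv_neg, neg_neg]
      have x3 : -B / -A = B / A := by rw [neg_div_neg_eq]
      rw [x1, x2, x3]
      have y1 : nE a b (-C⁻¹) = hE a b (-C⁻¹) * nE a b 1 := n_eq _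
      have y2 : nE a b A⁻¹ = hE a b A⁻¹ * nE a b 1 := n_eq _
      have hCi : -C⁻¹ ≠ 0 := neg_ne_zero.mpr (inv_ne_zero hc)
      have hAi : A⁻¹ ≠ 0 := inv_ne_zero hA
      have z1 : a (A / C) * hE a b (-C⁻¹) = hE a b (-C⁻¹) * a (A * C) := by
        rw [R.ha _ _ hCi]
        congr 2
        field_simp
      have z2 : nE a b 1 * hE a b (-C⁻¹) = hE a b (-C) * nE a b 1 := by
        rw [R.nh _ hCi]
        simp
      have z3 : hE a b (-C) * a (-(A * C)⁻¹) = a (-(C / A)) * hE a b (-C) := by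
        rw [R.ha _ _ (neg_ne_zero.mpr hc)]
        congr 2
        field_simp
      have z4 : hE a b (-C) * hE a b (-(A * C)⁻¹) = hE a b A⁻¹ := by
        rw [R.hm _ _ (neg_ne_zero.mpr hc) (neg_ne_zero.mpr (inv_ne_zero hy))]
        congr 1
        field_simp
      have z5 : a (-(A * C)⁻¹) * a (D / C) = a (B / A) := by
        rw [R.aa]
        congr 1
        field_simp
        linear_combination hd
      calc a (-(C / A)) * nE a b A⁻¹ * a (B / A)
          = a (-(C / A)) * (hE a b (-C) * hE a b (-(A * C)⁻¹) * nE a b 1) * (a (-(A * C)⁻¹) * a (D / C)) := by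
            rw [z4, z5, y2]
        _ = (a (-(C / A)) * hE a b (-C)) * hE a b (-(A * C)⁻¹) * nE a b 1 * a (-(A * C)⁻¹) * a (D / C) := by
            simp only [mul_assoc]
        _ = hE a b (-C) * (a (-(A * C)⁻¹) * hE a b (-(A * C)⁻¹) * nE a b 1 * a (-(A * C)⁻¹)) * a (D / C) := by
            rw [← z3]; simp only [mul_assoc]
        _ = hE a b (-C) * (nE a b 1 * a (A * C) * nE a b 1) * a (D / C) := by rw [← hk]
        _ = (nE a b 1 * hE a b (-C⁻¹)) * a (A * C) * nE a b 1 * a (D / C) := by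
            rw [z2]; simp only [mul_assoc]
        _ = nE a b 1 * (hE a b (-C⁻¹) * a (A * C)) * nE a b 1 * a (D / C) := by simp only [mul_assoc]
        _ = nE a b 1 * (a (A / C) * nE a b (-C⁻¹) * a (D / C)) := by
            rw [← z1, y1]; simp only [mul_assoc]

/-- The map on `SL₂(F)`. -/
noncomputable def PhiG (a b : F → Γ) (g : SpecialLinearGroup (Fin 2) F) : Γ :=
  PhiE a b (g.1 0 0) (g.1 0 1) (g.1 1 0) (g.1 1 1)

omit R in
theorem det_eq (g : SpecialLinearGroup (Fin 2) F) :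
    g.1 0 0 * g.1 1 1 - g.1 0 1 * g.1 1 0 = 1 := by
  have := g.2
  rwa [Matrix.det_fin_two] at this

/-- Upper unitriangular. -/
def upE (t : F) : SpecialLinearGroup (Fin 2) F := ⟨!![1, t; 0, 1], by simp [Matrix.det_fin_two]⟩
/-- Weyl element. -/
def wE : SpecialLinearGroup (Fin 2) F := ⟨!![0, 1; -1, 0], by simp [Matrix.det_fin_two]⟩
/-- Diagonal element. -/
noncomputable def dE (t : F) (ht : t ≠ 0) : SpecialLinearGroup (Fin 2) F :=
  ⟨!![t, 0; 0, t⁻¹], by simp [Matrix.det_fin_two, ht]⟩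

theorem PhiG_up (t : F) (g : SpecialLinearGroup (Fin 2) F) :
    PhiG a b (upE t * g) = a t * PhiG a b g := by
  have e0 : (upE t * g).1 = !![1, t; 0, 1] * g.1 := rfl
  have := R.Phi_up t (det_eq g)
  rw [PhiG, PhiG, ← this]
  simp [PhiG, e0, Matrix.mul_apply, Fin.sum_univ_two]

theorem PhiG_d (t : F) (ht : t ≠ 0) (g : SpecialLinearGroup (Fin 2) F) :
    PhiG a b (dE t ht * g) = hE a b t * PhiG a b g := by
  have e0 : (dE t ht * g).1 = !![t, 0; 0, t⁻¹] * g.1 := rfl
  have := R.Phi_d t ht (det_eq g)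
  rw [PhiG, PhiG, ← this]
  simp [e0, Matrix.mul_apply, Fin.sum_univ_two]

theorem PhiG_w (g : SpecialLinearGroup (Fin 2) F) :
    PhiG a b (wE * g) = nE a b 1 * PhiG a b g := by
  have e0 : (wE * g).1 = !![0, 1; -1, 0] * g.1 := rfl
  have := R.Phi_w (det_eq g)
  rw [PhiG, PhiG, ← this]
  simp [e0, Matrix.mul_apply, Fin.sum_univ_two]

theorem PhiG_one : PhiG a b (1 : SpecialLinearGroup (Fin 2) F) = 1 := by
  have := R.Phi_one
  simpa [PhiG] using this

omit R in
theorem decomp (g : SpecialLinearGroup (Fin 2) F) (hc : g.1 1 0 ≠ 0) :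
    g = upE (g.1 0 0 / g.1 1 0) * dE (-(g.1 1 0)⁻¹) (neg_ne_zero.mpr (inv_ne_zero hc)) * wE * upE (g.1 1 1 / g.1 1 0) := by
  have hd := det_eq g
  apply Subtype.ext
  show g.1 = !![1, _; 0, 1] * !![_, 0; 0, _] * !![0, 1; -1, 0] * !![1, _; 0, 1]
  ext i j
  fin_cases i <;> fin_cases j <;> simp [Matrix.mul_apply, Fin.sum_univ_two] <;> field_simp
  linear_combination -hd

omit R in
theorem decomp0 (g : SpecialLinearGroup (Fin 2) F) (hc : g.1 1 0 = 0) (hA : g.1 0 0 ≠ 0) :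
    g = upE (g.1 0 0 * g.1 0 1) * dE (g.1 0 0) hA := by
  have hd := det_eq g
  rw [hc] at hd
  apply Subtype.ext
  show g.1 = !![1, _; 0, 1] * !![_, 0; 0, _]
  ext i j
  fin_cases i <;> fin_cases j <;> simp [Matrix.mul_apply, Fin.sum_univ_two, hc] <;> field_simp
  linear_combination hd

omit R in
theorem A_ne (g : SpecialLinearGroup (Fin 2) F) (hc : g.1 1 0 = 0) : g.1 0 0 ≠ 0 := by
  intro h0
  have hd := det_eq g
  simp [h0, hc] at hd

theorem PhiG_up1 (t : F) : PhiG a b (upE t) = a t := by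
  have := R.PhiG_up t 1
  rwa [mul_one, R.PhiG_one, mul_one] at this

theorem PhiG_d1 (t : F) (ht : t ≠ 0) : PhiG a b (dE t ht) = hE a b t := by
  have := R.PhiG_d t ht 1
  rwa [mul_one, R.PhiG_one, mul_one] at this

theorem PhiG_w1 : PhiG a b (wE : SpecialLinearGroup (Fin 2) F) = nE a b 1 := by
  have := R.PhiG_w (1 : SpecialLinearGroup (Fin 2) F)
  rwa [mul_one, R.PhiG_one, mul_one] at this

/-- `PhiG` is multiplicative. -/
theorem PhiG_mul (g g' : SpecialLinearGroup (Fin 2) F) :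
    PhiG a b (g * g') = PhiG a b g * PhiG a b g' := by
  by_cases hc : g.1 1 0 = 0
  · conv_lhs => rw [decomp0 g hc (A_ne g hc)]
    conv_rhs => rw [decomp0 g hc (A_ne g hc)]
    rw [mul_assoc, R.PhiG_up, R.PhiG_d, R.PhiG_up, R.PhiG_d1]
    simp only [mul_assoc]
  · conv_lhs => rw [decomp g hc]
    conv_rhs => rw [decomp g hc]
    simp only [mul_assoc]
    rw [R.PhiG_up, R.PhiG_d, R.PhiG_w, R.PhiG_up, R.PhiG_up, R.PhiG_d, R.PhiG_w, R.PhiG_up1]
    simp only [mul_assoc]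

/-- The homomorphism. -/
noncomputable def hom : SpecialLinearGroup (Fin 2) F →* Γ where
  toFun := PhiG a b
  map_one' := R.PhiG_one
  map_mul' := R.PhiG_mul

theorem hom_up {g : SpecialLinearGroup (Fin 2) F} {t : F} (hg : g.1 = !![1, t; 0, 1]) : R.hom g = a t := by
  have : g = upE t := Subtype.ext hg
  rw [this]
  exact R.PhiG_up1 t

theorem hom_low {g : SpecialLinearGroup (Fin 2) F} {t : F} (hg : g.1 = !![1, 0; t, 1]) : R.hom g = b t := by
  by_cases ht : t = 0
  · subst ht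
    have : g = 1 := by
      apply Subtype.ext
      rw [hg]
      ext i j
      fin_cases i <;> fin_cases j <;> simp
    rw [this, map_one, R.b_zero]
  · have e : PhiG a b g = a (t⁻¹) * nE a b (-t⁻¹) * a (t⁻¹) := by
      simp [PhiG, PhiE, hg, ht, one_div]
    show PhiG a b g = b t
    rw [e]
    have x1 : a t⁻¹ * a (-t⁻¹) = 1 := by rw [R.aa]; simp [R.a_zero]
    have x2 : a (-t⁻¹) * a t⁻¹ = 1 := by rw [R.aa]; simp [R.a_zero]
    have e2 : nE a b (-t⁻¹) = a (-t⁻¹) * b t * a (-t⁻¹) := by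
      simp [nE]
    rw [e2]
    calc a t⁻¹ * (a (-t⁻¹) * b t * a (-t⁻¹)) * a t⁻¹ = (a t⁻¹ * a (-t⁻¹)) * b t * (a (-t⁻¹) * a t⁻¹) := by
          simp only [mul_assoc]
      _ = b t := by rw [x1, x2]; simp

/-- The range. -/
theorem hom_range {K : Subgroup Γ} (ha : ∀ t, a t ∈ K) (hb : ∀ t, b t ∈ K) : R.hom.range ≤ K := by
  rintro _ ⟨g, rfl⟩
  show PhiG a b g ∈ K
  have hn : ∀ t, nE a b t ∈ K := fun t => K.mul_mem (K.mul_mem (ha _) (hb _)) (ha _)
  have hh : ∀ t, hE a b t ∈ K := fun t => K.mul_mem (hn _) (K.inv_mem (hn _))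
  by_cases hc : g.1 1 0 = 0
  · simp only [PhiG, PhiE, hc, ne_eq, not_true_eq_false, if_false]
    exact K.mul_mem (ha _) (hh _)
  · simp only [PhiG, PhiE, hc, ne_eq, not_false_eq_true, if_true]
    exact K.mul_mem (K.mul_mem (ha _) (hn _)) (ha _)

theorem a_mem_range (t : F) : a t ∈ R.hom.range :=
  ⟨upE t, R.hom_up rfl⟩

theorem b_mem_range (t : F) : b t ∈ R.hom.range := by
  refine ⟨⟨!![1, 0; t, 1], by simp [Matrix.det_fin_two]⟩, R.hom_low rfl⟩

end Rel

end Cfsg.Agent.Lib.Chev.SL2
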