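import Cfsg.Agent.Lib.Chev.SL2Hom
import Cfsg.Agent.Lib.Chev.BNP

/-!
The homomorphism `SL₂(F) → ⟨X_r, X_{-r}⟩` for a root `r`.
-/

set_option autoImplicit false

namespace Cfsg.Agent.Lib.Chev

open Cfsg Cfsg.Lie Matrix

variable {D : ChevalleyDatum} {F : Type*} [Field F]

namespace Good2

variable (G : Good2 D)
include G

theorem pairing_self {r : ℕ} (hr : r < D.nroots) : D.pairing r r = 2 := by
  have hmain : ∀ r, r < D.nroots → NN D ≤ r → D.pairing r r = 2 ∧ D.pairing (D.neg r) (D.neg r) = 2 := by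
    refine G.pos_induct ?_ ?_
    · intro i hi
      have hp := G.simple_lt hi
      have h1 : D.pairing (D.simple i) (D.simple i) = 2 := by
        rw [G.pairing_simple hi, G.cartan_self hi]
      refine ⟨h1, ?_⟩
      rw [← G.W_simple hi, G.pairing_W hi hp hp, h1]
    · intro i r hi hr hN hN' hlt h
      have hW := G.W_lt hi hr
      have hnW := G.neg_lt hW
      have hn := G.neg_lt hr
      constructor
      · rw [← G.pairing_W hi hr hr]
        exact h.1
      · rw [← G.pairing_W hi hn hn, G.W_neg hi hr]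
        exact h.2
  by_cases hN : NN D ≤ r
  · exact (hmain r hr hN).1
  · have h1 : NN D ≤ D.neg r := by
      rw [G.neg_eq hr]
      have := G.n_even
      show D.nroots / 2 ≤ D.nroots - 1 - r
      have h2 : r < D.nroots / 2 := by
        have : ¬ (D.nroots / 2 ≤ r) := hN
        omega
      omega
    have := (hmain _ (G.neg_lt hr) h1).2
    rwa [G.neg_neg hr] at this

theorem n_inv_eq {r : ℕ} (hr : r < D.nroots) (t : F) : D.nMat F r (-t) * D.nMat F r t = 1 := by
  have := G.nMat_mul_neg (F := F) hr (-t)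
  rwa [neg_neg] at this

/-- Scaling the relation from `1` to a square root of one. -/
theorem P_of_one {r : ℕ} (hr : r < D.nroots)
    (h : ∀ v : F, D.nMat F r 1 * D.x F r v = D.x F (D.neg r) (-v) * D.nMat F r 1)
    {ε : F} (hε : ε * ε = 1) (v : F) :
    D.nMat F r ε * D.x F r v = D.x F (D.neg r) (-v) * D.nMat F r ε := by
  have hε0 : ε ≠ 0 := by
    rintro rfl
    simp at hε
  have e1 : D.nMat F r ε = Dg D r ε * D.nMat F r 1 := by
    have := congrArg Units.val (G.nrU_eq_hG (F := F) hr hε0)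
    simpa [G.h_eq hr hε0] using this
  have e2 := G.dgM_mul_x (G.chiP_isChi r hε0) (G.neg_lt hr) (-v)
  have e3 : chiP D r ε (D.neg r) = 1 := by
    simp only [chiP]
    rw [G.pairing_neg r r hr, G.pairing_self hr]
    rw [show (-2 : ℤ) = -(2 : ℕ) by norm_num, _root_.zpow_neg, zpow_natCast, pow_two, hε, inv_one]
  rw [e3, one_mul] at e2
  rw [e1, mul_assoc, h, ← mul_assoc, ← mul_assoc]
  show dgM D (chiP D r ε) * _ * _ = _ * dgM D (chiP D r ε) * _
  rw [e2]

theorem P_step {i s : ℕ} (hi : i < D.rank) (hs : s < D.nroots)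
    (h : ∀ v : F, D.nMat F s 1 * D.x F s v = D.x F (D.neg s) (-v) * D.nMat F s 1) (u : F) :
    D.nMat F (G.W i s) 1 * D.x F (G.W i s) u = D.x F (D.neg (G.W i s)) (-u) * D.nMat F (G.W i s) 1 := by
  have hn := G.neg_lt hs
  have hS := sign_sq (F := F) (G.S_cases hi hs)
  set ε : F := ((G.S i s : ℤ) : F) with hε
  have e1 := G.n_mul_nMat (F := F) hi hs ε
  have e2 := G.n_mul_x (F := F) hi hs (ε * u)
  have e3 := G.n_mul_x (F := F) hi hn (-(ε * u))
  rw [G.W_neg hi hs, G.S_neg hi hs, ← hε] at e3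
  rw [← hε, hS] at e1
  rw [← hε, ← mul_assoc, hS, one_mul] at e2
  have e4 : ε * -(ε * u) = -u := by
    rw [mul_neg, ← mul_assoc, hS, one_mul]
  rw [e4] at e3
  have hP := G.P_of_one hs h hS (ε * u)
  have hU : IsUnit (D.nMat F (D.simple i) 1) := (G.nG ⟨i, hi⟩).isUnit
  apply hU.mul_right_cancel
  change D.nMat F (G.W i s) 1 * D.x F (G.W i s) u * nM D F i = D.x F (D.neg (G.W i s)) (-u) * D.nMat F (G.W i s) 1 * nM D F i
  change nM D F i * _ = _ at e1
  change nM D F i * _ = _ at e2
  change nM D F i * _ = _ at e3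
  calc D.nMat F (G.W i s) 1 * D.x F (G.W i s) u * nM D F i
      = D.nMat F (G.W i s) 1 * (D.x F (G.W i s) u * nM D F i) := by rw [mul_assoc]
    _ = D.nMat F (G.W i s) 1 * nM D F i * D.x F s (ε * u) := by rw [← e2, mul_assoc]
    _ = nM D F i * (D.nMat F s ε * D.x F s (ε * u)) := by rw [← e1, mul_assoc]
    _ = nM D F i * D.x F (D.neg s) (-(ε * u)) * D.nMat F s ε := by rw [hP, mul_assoc]
    _ = D.x F (D.neg (G.W i s)) (-u) * (nM D F i * D.nMat F s ε) := by rw [e3, mul_assoc]
    _ = _ := by rw [e1, mul_assoc]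

/-- `n_r x_r(u) n_r⁻¹ = x_{-r}(-u)` for a simple root. -/
theorem P_simple {i : ℕ} (hi : i < D.rank) (u : F) :
    D.nMat F (D.simple i) 1 * D.x F (D.simple i) u = D.x F (D.neg (D.simple i)) (-u) * D.nMat F (D.simple i) 1 := by
  have hp := G.simple_lt hi
  have h := fun u : F => G.n_mul_x (F := F) hi hp u
  simp only [G.W_simple hi] at h
  rcases G.S_cases hi hp with hS | hS
  · -- characteristic two
    rw [hS] at h
    simp only [Int.cast_one, one_mul] at h
    have hn := G.neg_lt hp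
    have e : (-1 : F) = 1 := by
      -- the relation `n a = b n` forces `2 = 0`
      set A : GL D.Idx F := G.xg hp 1 with hA
      set B : GL D.Idx F := G.xg hn 1 with hB
      have hm1 : G.xg hp (-1 : F) = A⁻¹ := (G.xg_inv hp 1).symm
      have hm2 : G.xg hn (-1 : F) = B⁻¹ := (G.xg_inv hn 1).symm
      have eN : ∀ t : F, D.nMat F (D.simple i) t = D.x F (D.simple i) t * D.x F (D.neg (D.simple i)) (-t⁻¹) * D.x F (D.simple i) t :=
        fun t => G.nMat_eq _ t
      have e1 : (A * B⁻¹ * A) * A = B * (A * B⁻¹ * A) := by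
        apply Units.ext
        rw [← hm2]
        simp only [hA, hB, Units.val_mul, Good0.xg_val]
        have := h 1
        rw [eN] at this
        simpa using this
      have e2 : B * A⁻¹ * B = A⁻¹ * B * A⁻¹ := by
        apply Units.ext
        rw [← hm1]
        have h3 := G.nn_eq (F := F) hp (t := 1) one_ne_zero
        rw [G.nMat_eq, G.nMat_eq, G.neg_neg hp] at h3
        simp only [hA, hB, Units.val_mul, Good0.xg_val]
        simpa using h3
      have e4 : B * A⁻¹ = A⁻¹ * B * A⁻¹ * B⁻¹ := by rw [← e2]; group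
      have e5 : B = A * B⁻¹ * A * (B * A⁻¹) := by
        have : (A * B⁻¹ * A) * A * (A * B⁻¹ * A)⁻¹ = A * B⁻¹ * A * (B * A⁻¹) := by group
        rw [← this, e1]; group
      have e3 : B = B⁻¹ := by
        rw [e4] at e5
        calc B = _ := e5
          _ = B⁻¹ := by group
      have e6 : G.xg hn ((1 : F) + 1) = 1 := by
        rw [← G.xg_mul hn]
        change B * B = 1
        nth_rw 1 [e3]
        simp
      have e7 := G.xg_eq_one hn e6
      linear_combination -e7
    have e' : -u = u := by rw [← neg_one_mul, e, one_mul]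
    rw [e']
    exact h u
  · rw [hS] at h
    simpa using h u

/-- `n_r x_r(u) n_r⁻¹ = x_{-r}(-u)` for every root. -/
theorem P_all {r : ℕ} (hr : r < D.nroots) (u : F) :
    D.nMat F r 1 * D.x F r u = D.x F (D.neg r) (-u) * D.nMat F r 1 := by
  have hpos : ∀ r, r < D.nroots → NN D ≤ r → ∀ u : F,
      D.nMat F r 1 * D.x F r u = D.x F (D.neg r) (-u) * D.nMat F r 1 := by
    refine G.pos_induct ?_ ?_
    · intro i hi u
      exact G.P_simple hi u
    · intro i r hi hr hN hN' hlt h u
      have := G.P_step (F := F) hi (G.W_lt hi hr) h u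
      rwa [G.W_W hi hr] at this
  by_cases hN : NN D ≤ r
  · exact hpos r hr hN u
  · have h1 : NN D ≤ D.neg r := by
      rw [G.neg_eq hr]
      have := G.n_even
      show D.nroots / 2 ≤ D.nroots - 1 - r
      have h2 : r < D.nroots / 2 := by
        have : ¬ (D.nroots / 2 ≤ r) := hN
        omega
      omega
    have hn := G.neg_lt hr
    have h2 := hpos _ hn h1 (-u)
    rw [G.neg_neg hr, G.nn_eq (F := F) hr one_ne_zero] at h2
    simp only [inv_one, neg_neg] at h2
    have e1 := G.nMat_mul_neg (F := F) hr (1 : F)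
    have e2 := G.n_inv_eq (F := F) hr (1 : F)
    calc D.nMat F r 1 * D.x F r u
        = D.nMat F r 1 * (D.x F r u * (D.nMat F r (-1) * D.nMat F r 1)) := by rw [e2, mul_one]
      _ = D.nMat F r 1 * (D.x F r u * D.nMat F r (-1)) * D.nMat F r 1 := by simp only [mul_assoc]
      _ = D.nMat F r 1 * (D.nMat F r (-1) * D.x F (D.neg r) (-u)) * D.nMat F r 1 := by
          rw [show D.x F r u * D.nMat F r (-1) = D.nMat F r (-1) * D.x F (D.neg r) (-u) from ?_]
          exact h2.symm
      _ = D.x F (D.neg r) (-u) * D.nMat F r 1 := by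
          rw [← mul_assoc, e1, one_mul]

theorem P_b {r : ℕ} (hr : r < D.nroots) (u : F) :
    D.nMat F r 1 * D.x F (D.neg r) u = D.x F r (-u) * D.nMat F r 1 := by
  have e1 := G.P_of_one hr (G.P_all hr) (ε := (-1 : F)) (by simp) (-u)
  rw [neg_neg] at e1
  have e2 := G.nMat_mul_neg (F := F) hr (1 : F)
  have e3 := G.n_inv_eq (F := F) hr (1 : F)
  calc D.nMat F r 1 * D.x F (D.neg r) u
      = D.nMat F r 1 * (D.x F (D.neg r) u * (D.nMat F r (-1) * D.nMat F r 1)) := by rw [e3, mul_one]
    _ = D.nMat F r 1 * (D.x F (D.neg r) u * D.nMat F r (-1)) * D.nMat F r 1 := by simp only [mul_assoc]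
    _ = D.nMat F r 1 * (D.nMat F r (-1) * D.x F r (-u)) * D.nMat F r 1 := by rw [e1]
    _ = _ := by rw [← mul_assoc, e2, one_mul]

theorem P_nh {r : ℕ} (hr : r < D.nroots) {s : F} (hs : s ≠ 0) :
    D.nMat F r 1 * D.hMat F r s = D.hMat F r s⁻¹ * D.nMat F r 1 := by
  have e2 := G.nMat_mul_neg (F := F) hr (1 : F)
  have e3 := G.n_inv_eq (F := F) hr (1 : F)
  have e1 : D.nMat F r 1 * D.nMat F r s = D.nMat F r s⁻¹ * D.nMat F r 1 := by
    have h1 : D.nMat F r s⁻¹ = D.x F (D.neg r) (-s) * D.x F r s⁻¹ * D.x F (D.neg r) (-s) := by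
      have := G.nn_eq (F := F) hr (t := -s) (neg_ne_zero.mpr hs)
      rw [inv_neg, neg_neg, G.nMat_eq, G.neg_neg hr, inv_neg, neg_neg] at this
      exact this.symm
    rw [h1, G.nMat_eq r s]
    have a1 := G.P_all hr s
    have a2 := G.P_b (F := F) hr (-s⁻¹)
    rw [neg_neg] at a2
    calc D.nMat F r 1 * (D.x F r s * D.x F (D.neg r) (-s⁻¹) * D.x F r s)
        = (D.nMat F r 1 * D.x F r s) * D.x F (D.neg r) (-s⁻¹) * D.x F r s := by simp only [mul_assoc]
      _ = D.x F (D.neg r) (-s) * (D.nMat F r 1 * D.x F (D.neg r) (-s⁻¹)) * D.x F r s := by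
          rw [a1]; simp only [mul_assoc]
      _ = D.x F (D.neg r) (-s) * D.x F r s⁻¹ * (D.nMat F r 1 * D.x F r s) := by
          rw [a2]; simp only [mul_assoc]
      _ = _ := by rw [a1]; simp only [mul_assoc]
  rw [G.hMat_eq, G.hMat_eq, ← mul_assoc, e1, mul_assoc, mul_assoc, e2, e3, mul_one]

/-- The rank one relations for a root. -/
theorem rel {r : ℕ} (hr : r < D.nroots) :
    SL2.Rel (F := F) (G.xg hr) (G.xg (G.neg_lt hr)) := by
  have hn := G.neg_lt hr
  have eN : ∀ t : F, ((SL2.nE (G.xg hr) (G.xg hn) t : GL D.Idx F) : Matrix D.Idx D.Idx F) = D.nMat F r t := by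
    intro t
    rw [G.nMat_eq]
    simp [SL2.nE]
  have eN' : ∀ t : F, SL2.nE (G.xg hr) (G.xg hn) t = G.nrU hr t := fun t => Units.ext (eN t)
  have eH : ∀ t : F, ((SL2.hE (G.xg hr) (G.xg hn) t : GL D.Idx F) : Matrix D.Idx D.Idx F) = D.hMat F r t := by
    intro t
    rw [G.hMat_eq, SL2.hE, eN', eN', G.nrU_inv]
    rfl
  refine ⟨G.xg_mul hr, G.xg_mul hn, ?_, ?_, ?_, ?_⟩
  · intro s t hs ht
    apply Units.ext
    rw [Units.val_mul, eH, eH, eH, G.h_eq hr hs, G.h_eq hr ht, G.h_eq hr (mul_ne_zero hs ht), G.Dg_mul r hs ht]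
  · intro s t hs
    apply Units.ext
    rw [Units.val_mul, Units.val_mul, eH, G.xg_val, G.xg_val, G.h_eq hr hs]
    have := G.dgM_mul_x (G.chiP_isChi r hs) hr t
    have e : chiP D r s r = s ^ 2 := by
      simp only [chiP]
      rw [G.pairing_self hr]
      norm_cast
    rw [e] at this
    exact this
  · intro s hs
    apply Units.ext
    rw [Units.val_mul, Units.val_mul, eH, eH, eN]
    exact G.P_nh hr hs
  · intro u
    apply Units.ext
    rw [Units.val_mul, Units.val_mul, eN, G.xg_val, G.xg_val]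
    exact G.P_all hr u

end Good2

end Cfsg.Agent.Lib.Chev
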