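import Cfsg.Agent.Lib.Chev.Stein6
import Cfsg.Agent.Lib.Chev.TorusCard

/-!
Steinberg's presentation: normal form in `H̄`, trivial centre when the Cartan matrix is unimodular.
-/

set_option autoImplicit false
set_option linter.unusedSimpArgs false
set_option linter.unusedVariables false
set_option linter.unusedSectionVars false

namespace Cfsg.Agent.Lib.Chev

open Cfsg Cfsg.Lie
open Good2 (rB gen_mem_rB rB_le rB_induction rB_mono wB_mem NN)

variable {D : ChevalleyDatum} {K : Type*} [Field K]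

/-- The product of the `h̄_i(c_i)`. -/
noncomputable def hP (D : ChevalleyDatum) (K : Type*) [Field K] (c : ℕ → K) (L : List ℕ) : D.SteinbergGroup K :=
  (L.map fun i => hB D K (D.simple i) (c i)).prod

@[simp] theorem hP_nil (c : ℕ → K) : hP D K c [] = 1 := rfl
@[simp] theorem hP_cons (c : ℕ → K) (a : ℕ) (L : List ℕ) :
    hP D K c (a :: L) = hB D K (D.simple a) (c a) * hP D K c L := by
  simp [hP]

theorem hP_mem {c : ℕ → K} {L : List ℕ} (h : ∀ i ∈ L, i < D.rank ∧ c i ≠ 0) : hP D K c L ∈ HB D K := by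
  induction L with
  | nil => exact Subgroup.one_mem _
  | cons a L ih =>
    rw [hP_cons]
    have ha := h a List.mem_cons_self
    exact Subgroup.mul_mem _ (hB_mem_HB ha.1 ha.2) (ih fun i hi => h i (List.mem_cons_of_mem _ hi))

theorem hP_congr {c c' : ℕ → K} {L : List ℕ} (h : ∀ i ∈ L, c i = c' i) : hP D K c L = hP D K c' L := by
  unfold hP
  congr 1
  apply List.map_congr_left
  intro i hi
  rw [h i hi]

theorem hP_wB (c : ℕ → K) (L : List ℕ) :
    hP D K c L = wB D K (L.flatMap fun i => D.hWord (D.simple i) (c i)) := by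
  induction L with
  | nil => rfl
  | cons a L ih =>
    rw [hP_cons, List.flatMap_cons, wB_append, ih]
    rfl

namespace Good5

variable (G : Good5 D)
include G

/-- `n̄(-a) = n̄(a)⁻¹`. -/
theorem nB_neg {r : ℕ} (hr : r < D.nroots) (a : K) : nB D K r (-a) = (nB D K r a)⁻¹ := by
  have hn := G.neg_lt hr
  rw [nB_eq, nB_eq]
  simp only [inv_neg, neg_neg, _root_.mul_inv_rev]
  rw [Good2.stGen_inv hr, Good2.stGen_inv hn, neg_neg]
  simp only [mul_assoc]

theorem hB_comm_same {r : ℕ} (hr : r < D.nroots) {a b : K} (ha : a ≠ 0) (hb : b ≠ 0) :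
    hB D K r a * hB D K r b = hB D K r b * hB D K r a := by
  rw [stGen_R3 hr ha hb, stGen_R3 hr hb ha, mul_comm]

/-- Action of an element of `H̄` on an element `h̄_p(u)`: it is fixed. -/
theorem act_hB {y : D.SteinbergGroup K} {χ : ℕ → K} (h1 : IsChi D χ)
    (h2 : ∀ s, s < D.nroots → ∀ u : K, y * D.stGen K s u * y⁻¹ = D.stGen K s (χ s * u)) {p : ℕ} (hp : p < D.nroots)
    {u : K} (hu : u ≠ 0) : y * hB D K p u * y⁻¹ = hB D K p u := by
  have hn := G.neg_lt hp
  have hχ := h1.ne p hp
  have e : y * (nB D K p u * nB D K p (-1)) * y⁻¹ = (y * nB D K p u * y⁻¹) * (y * nB D K p (-1) * y⁻¹) := by group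
  rw [hB_eq, e, G.act_nB h1 h2 hp, G.act_nB h1 h2 hp, mul_neg, mul_one, G.nB_neg hp,
    nB_eq_hB hp hn (χ p * u), nB_eq_hB hp hn (χ p), _root_.mul_inv_rev, mul_assoc, mul_inv_cancel_left]
  rw [← hB_eq, mul_inv_eq_iff_eq_mul, stGen_R3 hp hu hχ, mul_comm]

/-- `H̄` is abelian. -/
theorem HB_comm {a b : D.SteinbergGroup K} (ha : a ∈ HB D K) (hb : b ∈ HB D K) : a * b = b * a := by
  obtain ⟨χ, h1, h2⟩ := G.HB_le_actB ha
  have hle : HB D K ≤ Subgroup.centralizer ({a} : Set (D.SteinbergGroup K)) := by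
    apply (Subgroup.closure_le _).mpr
    rintro _ ⟨i, t, hi, ht, rfl⟩
    rw [SetLike.mem_coe, Subgroup.mem_centralizer_singleton_iff]
    have := G.act_hB h1 h2 (G.simple_lt hi) ht
    rw [mul_inv_eq_iff_eq_mul] at this
    exact this.symm
  have := hle hb
  rw [Subgroup.mem_centralizer_singleton_iff] at this
  exact this.symm

theorem hP_mul {c c' : ℕ → K} {L : List ℕ} (h : ∀ i ∈ L, i < D.rank ∧ c i ≠ 0 ∧ c' i ≠ 0) :
    hP D K c L * hP D K c' L = hP D K (fun i => c i * c' i) L := by
  induction L with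
  | nil => simp
  | cons a L ih =>
    have ha := h a List.mem_cons_self
    have hL := fun i hi => h i (List.mem_cons_of_mem _ hi)
    rw [hP_cons, hP_cons, hP_cons, ← ih hL, ← stGen_R3 (G.simple_lt ha.1) ha.2.1 ha.2.2]
    have hc : hP D K c L * hB D K (D.simple a) (c' a) = hB D K (D.simple a) (c' a) * hP D K c L :=
      G.HB_comm (hP_mem fun i hi => ⟨(hL i hi).1, (hL i hi).2.1⟩) (hB_mem_HB ha.1 ha.2.2)
    calc hB D K (D.simple a) (c a) * hP D K c L * (hB D K (D.simple a) (c' a) * hP D K c' L)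
        = hB D K (D.simple a) (c a) * (hP D K c L * hB D K (D.simple a) (c' a)) * hP D K c' L := by group
      _ = _ := by rw [hc]; group

theorem hP_one {L : List ℕ} (h : ∀ i ∈ L, i < D.rank) : hP D K (fun _ => 1) L = 1 := by
  induction L with
  | nil => simp
  | cons a L ih =>
    have hp := G.simple_lt (h a List.mem_cons_self)
    rw [hP_cons, ih fun i hi => h i (List.mem_cons_of_mem _ hi), hB_one hp (G.neg_lt hp), mul_one]

theorem hP_single {j : ℕ} (t : K) {L : List ℕ} (h : ∀ i ∈ L, i < D.rank) (hL : L.Nodup) :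
    hP D K (fun i => if i = j then t else 1) L = if j ∈ L then hB D K (D.simple j) t else 1 := by
  induction L with
  | nil => simp
  | cons a L ih =>
    have hp := G.simple_lt (h a List.mem_cons_self)
    rw [hP_cons, ih (fun i hi => h i (List.mem_cons_of_mem _ hi)) (List.nodup_cons.mp hL).2]
    by_cases haj : a = j
    · subst haj
      have := (List.nodup_cons.mp hL).1
      simp [this]
    · have h2 : hB D K (D.simple a) (1 : K) = 1 := hB_one hp (G.neg_lt hp)
      simp only [if_neg haj, h2, one_mul, List.mem_cons]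
      by_cases hjL : j ∈ L
      · simp [hjL]
      · simp [hjL, Ne.symm haj]

/-- Normal form in `H̄`. -/
theorem HB_form {z : D.SteinbergGroup K} (hz : z ∈ HB D K) :
    ∃ c : ℕ → K, (∀ i, c i ≠ 0) ∧ z = hP D K c (List.range D.rank) := by
  have hR : ∀ i ∈ List.range D.rank, i < D.rank := fun i hi => List.mem_range.mp hi
  refine Subgroup.closure_induction (p := fun z _ => ∃ c : ℕ → K, (∀ i, c i ≠ 0) ∧ z = hP D K c (List.range D.rank))
    ?_ ?_ ?_ ?_ hz
  · rintro _ ⟨j, t, hj, ht, rfl⟩
    refine ⟨fun i => if i = j then t else 1, fun i => ?_, ?_⟩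
    · dsimp only
      split_ifs
      · exact ht
      · exact one_ne_zero
    · rw [G.hP_single t hR List.nodup_range, if_pos (List.mem_range.mpr hj)]
  · exact ⟨fun _ => 1, fun _ => one_ne_zero, (G.hP_one hR).symm⟩
  · rintro _ _ _ _ ⟨c, h1, rfl⟩ ⟨c', h2, rfl⟩
    exact ⟨_, fun i => mul_ne_zero (h1 i) (h2 i), G.hP_mul fun i hi => ⟨hR i hi, h1 i, h2 i⟩⟩
  · rintro _ _ ⟨c, h1, rfl⟩
    refine ⟨fun i => (c i)⁻¹, fun i => inv_ne_zero (h1 i), ?_⟩
    apply inv_eq_of_mul_eq_one_right
    rw [G.hP_mul fun i hi => ⟨hR i hi, h1 i, inv_ne_zero (h1 i)⟩]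
    rw [hP_congr (c' := fun _ => 1) fun i _ => mul_inv_cancel₀ (h1 i), G.hP_one hR]

theorem theta_hP {c : ℕ → K} (hc : ∀ i, c i ≠ 0) {L : List ℕ} (hL : ∀ i ∈ L, i < D.rank) :
    ((G.thetaG (hP D K c L) : GL D.Idx K) : Matrix D.Idx D.Idx K) = dgM D (chiL D L c) := by
  rw [hP_wB, G.thetaG_word, G.wG_val]
  exact G.toGood2.word_hWords L hL c fun i _ => hc i

/-- The kernel of `θ` in `H̄` is the kernel of the action of the Cartan matrix. -/
theorem theta_eq_one_iff {c : ℕ → K} (hc : ∀ i, c i ≠ 0) (h : G.thetaG (hP D K c (List.range D.rank)) = 1) :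
    act (cartanFin D) (fun i : Fin D.rank => Units.mk0 (c i) (hc i)) = 1 := by
  have h1 : (fun i : Fin D.rank => Units.mk0 (c i) (hc i)) ∈ (act (cartanFin D) : (Fin D.rank → Kˣ) →* (Fin D.rank → Kˣ)).ker := by
    rw [← G.toGood2.torusHom_ker, MonoidHom.mem_ker]
    apply Units.ext
    rw [G.toGood2.torusHom_val, Units.val_one]
    have e := G.theta_hP hc (L := List.range D.rank) (fun i hi => List.mem_range.mp hi)
    rw [h, Units.val_one] at e
    refine Eq.trans ?_ e.symm
    congr 1
    funext s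
    unfold chiL
    congr 1
    apply List.map_congr_left
    intro i hi
    have := List.mem_range.mp hi
    simp [extU, this]
  exact h1

/-- The presented group has trivial centre if the action of the Cartan matrix is injective. -/
theorem center_trivial_of (M : CoxeterMatrix (Fin D.rank)) (hM : ∀ i j : Fin D.rank, G.cm i j = M i j)
    (hact : ∀ c : Fin D.rank → Kˣ, act (cartanFin D) c = 1 → c = 1) :
    Subgroup.center (D.SteinbergGroup K) = ⊥ := by
  rw [eq_bot_iff]
  intro z hz
  have h1 := G.center_le_ker hz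
  obtain ⟨c, hc, rfl⟩ := G.HB_form (G.ker_le_HB M hM h1)
  have h3 := hact _ (G.theta_eq_one_iff hc h1)
  rw [Subgroup.mem_bot, hP_congr (c' := fun _ => 1), G.hP_one fun i hi => List.mem_range.mp hi]
  intro i hi
  have := congrFun h3 ⟨i, List.mem_range.mp hi⟩
  have h4 := congrArg (fun u : Kˣ => (u : K)) this
  simpa using h4

/-- The presented group has trivial centre if the Cartan matrix is invertible. -/
theorem center_trivial (M : CoxeterMatrix (Fin D.rank)) (hM : ∀ i j : Fin D.rank, G.cm i j = M i j)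
    (B : Matrix (Fin D.rank) (Fin D.rank) ℤ) (hB : cartanFin D * B = 1) :
    Subgroup.center (D.SteinbergGroup K) = ⊥ := by
  refine G.center_trivial_of M hM fun c hc => ?_
  have := act_act (cartanFin D) B c
  rw [hc, hB, act_one, map_one] at this
  exact this.symm

end Good5

end Cfsg.Agent.Lib.Chev
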